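import Cfsg.Agent.Lib.Schur.U62.S1.C0
import Cfsg.Agent.Lib.Schur.U62.S1.C1
import Cfsg.Agent.Lib.Schur.U62.S1.C2
import Cfsg.Agent.Lib.Schur.U62.S1.C3
import Cfsg.Agent.Lib.Schur.U62.S1.C4
import Cfsg.Agent.Lib.Schur.U62.S1.C5
import Cfsg.Agent.Lib.Schur.U62.S1.C6
import Cfsg.Agent.Lib.Schur.U62.S1.C7
import Cfsg.Agent.Lib.Schur.U62.S1.C8
import Cfsg.Agent.Lib.Schur.U62.S1.C9
import Cfsg.Agent.Lib.Schur.U62.S1.C10
import Cfsg.Agent.Lib.Schur.U62.S1.C11
import Cfsg.Agent.Lib.Schur.U62.S1.C12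
import Cfsg.Agent.Lib.Schur.U62.S1.C13
import Cfsg.Agent.Lib.Schur.U62.S1.C14
import Cfsg.Agent.Lib.Schur.U62.S1.C15
import Cfsg.Agent.Lib.Schur.U62.S1.C16
import Cfsg.Agent.Lib.Schur.U62.S1.C17

namespace Cfsg.Agent.Lib.Schur.U62.S1.Main

open Cfsg.Agent.Lib.TC.Core Cfsg.Agent.Lib.TC.Enc Cfsg.Agent.Lib.TC.Pres Cfsg.Agent.Lib.TC.Perm Cfsg.Agent.Lib.TC.Main Cfsg.Agent.Lib.TC.Chain

set_option maxRecDepth 100000

open Cfsg.Agent.Lib.Schur.U62.S1.Tab

theorem all0 : cert.chkRange 0 4000 = true := Cfsg.Agent.Lib.Schur.U62.S1.C0.ok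
theorem all1 : cert.chkRange 0 8000 = true := Cert.chkRange_join (lo := 0) (a := 4000) (b := 4000) _ all0 Cfsg.Agent.Lib.Schur.U62.S1.C1.ok
theorem all2 : cert.chkRange 0 12000 = true := Cert.chkRange_join (lo := 0) (a := 8000) (b := 4000) _ all1 Cfsg.Agent.Lib.Schur.U62.S1.C2.ok
theorem all3 : cert.chkRange 0 16000 = true := Cert.chkRange_join (lo := 0) (a := 12000) (b := 4000) _ all2 Cfsg.Agent.Lib.Schur.U62.S1.C3.ok
theorem all4 : cert.chkRange 0 20000 = true := Cert.chkRange_join (lo := 0) (a := 16000) (b := 4000) _ all3 Cfsg.Agent.Lib.Schur.U62.S1.C4.ok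
theorem all5 : cert.chkRange 0 24000 = true := Cert.chkRange_join (lo := 0) (a := 20000) (b := 4000) _ all4 Cfsg.Agent.Lib.Schur.U62.S1.C5.ok
theorem all6 : cert.chkRange 0 28000 = true := Cert.chkRange_join (lo := 0) (a := 24000) (b := 4000) _ all5 Cfsg.Agent.Lib.Schur.U62.S1.C6.ok
theorem all7 : cert.chkRange 0 32000 = true := Cert.chkRange_join (lo := 0) (a := 28000) (b := 4000) _ all6 Cfsg.Agent.Lib.Schur.U62.S1.C7.ok
theorem all8 : cert.chkRange 0 36000 = true := Cert.chkRange_join (lo := 0) (a := 32000) (b := 4000) _ all7 Cfsg.Agent.Lib.Schur.U62.S1.C8.ok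
theorem all9 : cert.chkRange 0 40000 = true := Cert.chkRange_join (lo := 0) (a := 36000) (b := 4000) _ all8 Cfsg.Agent.Lib.Schur.U62.S1.C9.ok
theorem all10 : cert.chkRange 0 44000 = true := Cert.chkRange_join (lo := 0) (a := 40000) (b := 4000) _ all9 Cfsg.Agent.Lib.Schur.U62.S1.C10.ok
theorem all11 : cert.chkRange 0 48000 = true := Cert.chkRange_join (lo := 0) (a := 44000) (b := 4000) _ all10 Cfsg.Agent.Lib.Schur.U62.S1.C11.ok
theorem all12 : cert.chkRange 0 52000 = true := Cert.chkRange_join (lo := 0) (a := 48000) (b := 4000) _ all11 Cfsg.Agent.Lib.Schur.U62.S1.C12.ok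
theorem all13 : cert.chkRange 0 56000 = true := Cert.chkRange_join (lo := 0) (a := 52000) (b := 4000) _ all12 Cfsg.Agent.Lib.Schur.U62.S1.C13.ok
theorem all14 : cert.chkRange 0 60000 = true := Cert.chkRange_join (lo := 0) (a := 56000) (b := 4000) _ all13 Cfsg.Agent.Lib.Schur.U62.S1.C14.ok
theorem all15 : cert.chkRange 0 64000 = true := Cert.chkRange_join (lo := 0) (a := 60000) (b := 4000) _ all14 Cfsg.Agent.Lib.Schur.U62.S1.C15.ok
theorem all16 : cert.chkRange 0 68000 = true := Cert.chkRange_join (lo := 0) (a := 64000) (b := 4000) _ all15 Cfsg.Agent.Lib.Schur.U62.S1.C16.ok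
theorem all17 : cert.chkRange 0 69527 = true := Cert.chkRange_join (lo := 0) (a := 68000) (b := 1527) _ all16 Cfsg.Agent.Lib.Schur.U62.S1.C17.ok

theorem hFinal : cert.chkFinal 0 69527 = true := by decide +kernel

theorem h0 : cert.eLvl (cert.par (cert.find cert.MAX cert.D 0)) = cert.MAX := by decide +kernel

theorem hcount : cert.countRoots cert.N = 38016 := by
  rw [countRoots_eq_acc]
  decide +kernel

theorem hchecked : Checked cert where
  hN := by decide
  hC := all17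
  hF := hFinal
  h0 := h0

theorem h1 : chkRelRots cert inv' rels' witT.get = true := by decide +kernel

theorem h2 : chkSubRots cert subs' = true := by decide +kernel

theorem hk : cert.k = ls.length := by decide

end Cfsg.Agent.Lib.Schur.U62.S1.Main
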