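import Cfsg.Agent.Lib.TC.Chain
import Cfsg.Agent.Lib.Schur.U62.S1.CT0
import Cfsg.Agent.Lib.Schur.U62.S1.CT1

namespace Cfsg.Agent.Lib.Schur.U62.S1.Tab

open Cfsg.Agent.Lib.TC.Core Cfsg.Agent.Lib.TC.Enc Cfsg.Agent.Lib.TC.Pres Cfsg.Agent.Lib.TC.Perm Cfsg.Agent.Lib.TC.Main Cfsg.Agent.Lib.TC.Chain

set_option maxRecDepth 100000

/-- The chunks. -/
noncomputable def ctree : Tr Nat := (Tr.node Cfsg.Agent.Lib.Schur.U62.S1.CT0.tree Cfsg.Agent.Lib.Schur.U62.S1.CT1.tree)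

/-- The relator rotations. -/
noncomputable def rotT : Tr (List Nat) := (Tr.node (Tr.node (Tr.node (Tr.node (Tr.node (Tr.node (Tr.node (Tr.node (Tr.node (Tr.leaf []) (Tr.leaf [1,2,3,4,5,1,2,3,6,7,4,3,4,2,3,7,6,1,2,3,7,4,3,2,1,0,1,2,3,4,7,3,2,1,6,7,3,2,4,3,6,5,6,1,5,2,1,0,1,2,5,1,6,5,7,6,3,2,1,5,4,3,2,1,0])) (Tr.node (Tr.leaf [7,3,7,3,7,3]) (Tr.leaf []))) (Tr.node (Tr.node (Tr.leaf [1,5,1,5,1,5]) (Tr.leaf [])) (Tr.node (Tr.leaf [2,1,0,1,2,3,4,7,3,2,1,6,7,3,2,4,3,4,7,6,3,2,1,5,4,3,2,1,0,1,2,3,4,5,1,2,3,6,7,5,6,1,5,2,1,0,1,2,5,1,6,5,6,3,4,2,3,7,6,1,2,3,7,4,3]) (Tr.leaf [])))) (Tr.node (Tr.node (Tr.node (Tr.leaf [3,2,3,2,3,2]) (Tr.leaf [])) (Tr.node (Tr.leaf [2,3,4,5,1,2,3,6,7,5,6,1,5,2,1,0,1,2,5,1,6,5,6,3,4,2,3,7,6,1,2,3,7,4,3,2,1,0,1,2,3,4,7,3,2,1,6,7,3,2,4,3,4,7,6,3,2,1,5,4,3,2,1,0,1])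 (Tr.leaf []))) (Tr.node (Tr.node (Tr.leaf [6,3,6,3]) (Tr.leaf [])) (Tr.node (Tr.leaf [3,2,1,6,7,3,2,4,3,6,5,6,1,5,2,1,0,1,2,5,1,6,5,7,6,3,2,1,5,4,3,2,1,0,1,2,3,4,5,1,2,3,6,7,4,3,4,2,3,7,6,1,2,3,7,4,3,2,1,0,1,2,3,4,7]) (Tr.leaf []))))) (Tr.node (Tr.node (Tr.node (Tr.node (Tr.leaf [2,1,2,1,2,1]) (Tr.leaf [])) (Tr.node (Tr.leaf [6,7,6,7,6,7]) (Tr.leaf []))) (Tr.node (Tr.node (Tr.leaf [0,6,0,6]) (Tr.leaf [])) (Tr.node (Tr.leaf [4,7,6,3,2,1,5,4,3,2,1,0,1,2,3,4,5,1,2,3,6,7,5,6,1,5,2,1,0,1,2,5,1,6,5,6,3,4,2,3,7,6,1,2,3,7,4,3,2,1,0,1,2,3,4,7,3,2,1,6,7,3,2,4,3]) (Tr.leaf [])))) (Tr.node (Tr.node (Tr.node (Tr.leaf [2,4,2,4]) (Tr.leaf [])) (Tr.node (Tr.leaf [2,5,1,6,5,6,3,4,2,3,7,6,1,2,3,7,4,3,2,1,0,1,2,3,4,7,3,2,1,6,7,3,2,4,3,4,7,6,3,2,1,5,4,3,2,1,0,1,2,3,4,5,1,2,3,6,7,5,6,1,5,2,1,0,1])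 (Tr.leaf []))) (Tr.node (Tr.node (Tr.leaf [7,0,7,0]) (Tr.leaf [])) (Tr.node (Tr.leaf [0,1,2,5,1,6,5,7,6,3,2,1,5,4,3,2,1,0,1,2,3,4,5,1,2,3,6,7,4,3,4,2,3,7,6,1,2,3,7,4,3,2,1,0,1,2,3,4,7,3,2,1,6,7,3,2,4,3,6,5,6,1,5,2,1]) (Tr.leaf [])))))) (Tr.node (Tr.node (Tr.node (Tr.node (Tr.node (Tr.leaf [2,0,2,0]) (Tr.leaf [0,0])) (Tr.node (Tr.leaf [7,5,7,5]) (Tr.leaf []))) (Tr.node (Tr.node (Tr.leaf [5,3,5,3]) (Tr.leaf [])) (Tr.node (Tr.leaf [2,1,6,7,3,2,4,3,4,7,6,3,2,1,5,4,3,2,1,0,1,2,3,4,5,1,2,3,6,7,5,6,1,5,2,1,0,1,2,5,1,6,5,6,3,4,2,3,7,6,1,2,3,7,4,3,2,1,0,1,2,3,4,7,3]) (Tr.leaf [])))) (Tr.node (Tr.node (Tr.node (Tr.leaf [4,1,4,1]) (Tr.leaf [])) (Tr.node (Tr.leaf [7,5,6,1,5,2,1,0,1,2,5,1,6,5,6,3,4,2,3,7,6,1,2,3,7,4,3,2,1,0,1,2,3,4,7,3,2,1,6,7,3,2,4,3,4,7,6,3,2,1,5,4,3,2,1,0,1,2,3,4,5,1,2,3,6])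 (Tr.leaf []))) (Tr.node (Tr.node (Tr.leaf [6,5,6,5,6,5]) (Tr.leaf [])) (Tr.node (Tr.leaf [3,6,5,6,1,5,2,1,0,1,2,5,1,6,5,7,6,3,2,1,5,4,3,2,1,0,1,2,3,4,5,1,2,3,6,7,4,3,4,2,3,7,6,1,2,3,7,4,3,2,1,0,1,2,3,4,7,3,2,1,6,7,3,2,4]) (Tr.leaf []))))) (Tr.node (Tr.node (Tr.node (Tr.node (Tr.leaf [3,1,3,1]) (Tr.leaf [])) (Tr.node (Tr.leaf [2,1,5,4,3,2,1,0,1,2,3,4,5,1,2,3,6,7,5,6,1,5,2,1,0,1,2,5,1,6,5,6,3,4,2,3,7,6,1,2,3,7,4,3,2,1,0,1,2,3,4,7,3,2,1,6,7,3,2,4,3,4,7,6,3]) (Tr.leaf []))) (Tr.node (Tr.node (Tr.leaf [6,2,6,2]) (Tr.leaf [])) (Tr.node (Tr.leaf [3,7,4,3,2,1,0,1,2,3,4,7,3,2,1,6,7,3,2,4,3,6,5,6,1,5,2,1,0,1,2,5,1,6,5,7,6,3,2,1,5,4,3,2,1,0,1,2,3,4,5,1,2,3,6,7,4,3,4,2,3,7,6,1,2]) (Tr.leaf [])))) (Tr.node (Tr.node (Tr.node (Tr.leaf [0,5,0,5])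 (Tr.leaf [])) (Tr.node (Tr.leaf [3,7,6,1,2,3,7,4,3,2,1,0,1,2,3,4,7,3,2,1,6,7,3,2,4,3,4,7,6,3,2,1,5,4,3,2,1,0,1,2,3,4,5,1,2,3,6,7,5,6,1,5,2,1,0,1,2,5,1,6,5,6,3,4,2]) (Tr.leaf []))) (Tr.node (Tr.node (Tr.leaf [7,2,7,2]) (Tr.leaf [])) (Tr.node (Tr.leaf [6,3,2,1,5,4,3,2,1,0,1,2,3,4,5,1,2,3,6,7,4,3,4,2,3,7,6,1,2,3,7,4,3,2,1,0,1,2,3,4,7,3,2,1,6,7,3,2,4,3,6,5,6,1,5,2,1,0,1,2,5,1,6,5,7]) (Tr.leaf []))))))) (Tr.node (Tr.node (Tr.node (Tr.node (Tr.node (Tr.node (Tr.leaf [0,1,0,1,0,1]) (Tr.leaf [1,2,3,6,7,4,3,4,2,3,7,6,1,2,3,7,4,3,2,1,0,1,2,3,4,7,3,2,1,6,7,3,2,4,3,6,5,6,1,5,2,1,0,1,2,5,1,6,5,7,6,3,2,1,5,4,3,2,1,0,1,2,3,4,5])) (Tr.node (Tr.leaf [4,7,4,7]) (Tr.leaf []))) (Tr.node (Tr.node (Tr.leaf [5,2,5,2]) (Tr.leaf [])) (Tr.node (Tr.leaf [3,4,7,3,2,1,6,7,3,2,4,3,4,7,6,3,2,1,5,4,3,2,1,0,1,2,3,4,5,1,2,3,6,7,5,6,1,5,2,1,0,1,2,5,1,6,5,6,3,4,2,3,7,6,1,2,3,7,4,3,2,1,0,1,2])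 (Tr.leaf [])))) (Tr.node (Tr.node (Tr.node (Tr.leaf [0,4,0,4]) (Tr.leaf [])) (Tr.node (Tr.leaf [1,2,3,6,7,5,6,1,5,2,1,0,1,2,5,1,6,5,6,3,4,2,3,7,6,1,2,3,7,4,3,2,1,0,1,2,3,4,7,3,2,1,6,7,3,2,4,3,4,7,6,3,2,1,5,4,3,2,1,0,1,2,3,4,5]) (Tr.leaf []))) (Tr.node (Tr.node (Tr.leaf [4,6,4,6]) (Tr.leaf [])) (Tr.node (Tr.leaf [7,3,2,4,3,6,5,6,1,5,2,1,0,1,2,5,1,6,5,7,6,3,2,1,5,4,3,2,1,0,1,2,3,4,5,1,2,3,6,7,4,3,4,2,3,7,6,1,2,3,7,4,3,2,1,0,1,2,3,4,7,3,2,1,6]) (Tr.leaf []))))) (Tr.node (Tr.node (Tr.node (Tr.node (Tr.leaf [0,3,0,3]) (Tr.leaf [])) (Tr.node (Tr.leaf [6,7,6,7,6,7]) (Tr.leaf []))) (Tr.node (Tr.node (Tr.leaf [1,6,1,6]) (Tr.leaf [])) (Tr.node (Tr.leaf [7,6,1,2,3,7,4,3,2,1,0,1,2,3,4,7,3,2,1,6,7,3,2,4,3,6,5,6,1,5,2,1,0,1,2,5,1,6,5,7,6,3,2,1,5,4,3,2,1,0,1,2,3,4,5,1,2,3,6,7,4,3,4,2,3])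 (Tr.leaf [])))) (Tr.node (Tr.node (Tr.node (Tr.leaf [3,4,3,4,3,4]) (Tr.leaf [])) (Tr.node (Tr.leaf [5,6,3,4,2,3,7,6,1,2,3,7,4,3,2,1,0,1,2,3,4,7,3,2,1,6,7,3,2,4,3,4,7,6,3,2,1,5,4,3,2,1,0,1,2,3,4,5,1,2,3,6,7,5,6,1,5,2,1,0,1,2,5,1,6]) (Tr.leaf []))) (Tr.node (Tr.node (Tr.leaf [1,7,1,7]) (Tr.leaf [])) (Tr.node (Tr.leaf [1,6,5,7,6,3,2,1,5,4,3,2,1,0,1,2,3,4,5,1,2,3,6,7,4,3,4,2,3,7,6,1,2,3,7,4,3,2,1,0,1,2,3,4,7,3,2,1,6,7,3,2,4,3,6,5,6,1,5,2,1,0,1,2,5]) (Tr.leaf [])))))) (Tr.node (Tr.node (Tr.node (Tr.node (Tr.node (Tr.leaf [2,1,2,1,2,1]) (Tr.leaf [4,4])) (Tr.node (Tr.leaf [5,7,5,7]) (Tr.leaf []))) (Tr.node (Tr.node (Tr.leaf [4,5,4,5]) (Tr.leaf [])) (Tr.node (Tr.leaf [3,2,4,3,4,7,6,3,2,1,5,4,3,2,1,0,1,2,3,4,5,1,2,3,6,7,5,6,1,5,2,1,0,1,2,5,1,6,5,6,3,4,2,3,7,6,1,2,3,7,4,3,2,1,0,1,2,3,4,7,3,2,1,6,7])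 (Tr.leaf [])))) (Tr.node (Tr.node (Tr.node (Tr.leaf [1,4,1,4]) (Tr.leaf [])) (Tr.node (Tr.leaf [5,2,1,0,1,2,5,1,6,5,6,3,4,2,3,7,6,1,2,3,7,4,3,2,1,0,1,2,3,4,7,3,2,1,6,7,3,2,4,3,4,7,6,3,2,1,5,4,3,2,1,0,1,2,3,4,5,1,2,3,6,7,5,6,1]) (Tr.leaf []))) (Tr.node (Tr.node (Tr.leaf [6,5,6,5,6,5]) (Tr.leaf [])) (Tr.node (Tr.leaf [1,5,2,1,0,1,2,5,1,6,5,7,6,3,2,1,5,4,3,2,1,0,1,2,3,4,5,1,2,3,6,7,4,3,4,2,3,7,6,1,2,3,7,4,3,2,1,0,1,2,3,4,7,3,2,1,6,7,3,2,4,3,6,5,6]) (Tr.leaf []))))) (Tr.node (Tr.node (Tr.node (Tr.node (Tr.leaf [3,2,3,2,3,2]) (Tr.leaf [])) (Tr.node (Tr.leaf [3,2,1,0,1,2,3,4,5,1,2,3,6,7,5,6,1,5,2,1,0,1,2,5,1,6,5,6,3,4,2,3,7,6,1,2,3,7,4,3,2,1,0,1,2,3,4,7,3,2,1,6,7,3,2,4,3,4,7,6,3,2,1,5,4]) (Tr.leaf []))) (Tr.node (Tr.node (Tr.leaf [6,3,6,3])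 (Tr.leaf [])) (Tr.node (Tr.leaf [1,0,1,2,3,4,7,3,2,1,6,7,3,2,4,3,6,5,6,1,5,2,1,0,1,2,5,1,6,5,7,6,3,2,1,5,4,3,2,1,0,1,2,3,4,5,1,2,3,6,7,4,3,4,2,3,7,6,1,2,3,7,4,3,2]) (Tr.leaf [])))) (Tr.node (Tr.node (Tr.node (Tr.leaf [1,5,1,5,1,5]) (Tr.leaf [])) (Tr.node (Tr.leaf [3,7,4,3,2,1,0,1,2,3,4,7,3,2,1,6,7,3,2,4,3,4,7,6,3,2,1,5,4,3,2,1,0,1,2,3,4,5,1,2,3,6,7,5,6,1,5,2,1,0,1,2,5,1,6,5,6,3,4,2,3,7,6,1,2]) (Tr.leaf []))) (Tr.node (Tr.node (Tr.leaf [7,3,7,3,7,3]) (Tr.leaf [])) (Tr.node (Tr.leaf [3,2,1,0,1,2,3,4,5,1,2,3,6,7,4,3,4,2,3,7,6,1,2,3,7,4,3,2,1,0,1,2,3,4,7,3,2,1,6,7,3,2,4,3,6,5,6,1,5,2,1,0,1,2,5,1,6,5,7,6,3,2,1,5,4]) (Tr.leaf [])))))))) (Tr.node (Tr.node (Tr.node (Tr.node (Tr.node (Tr.node (Tr.node (Tr.leaf [0,1,0,1,0,1]) (Tr.leaf [4,5,1,2,3,6,7,4,3,4,2,3,7,6,1,2,3,7,4,3,2,1,0,1,2,3,4,7,3,2,1,6,7,3,2,4,3,6,5,6,1,5,2,1,0,1,2,5,1,6,5,7,6,3,2,1,5,4,3,2,1,0,1,2,3]))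 (Tr.node (Tr.leaf [3,7,3,7,3,7]) (Tr.leaf []))) (Tr.node (Tr.node (Tr.leaf [5,2,5,2]) (Tr.leaf [])) (Tr.node (Tr.leaf [0,1,2,3,4,7,3,2,1,6,7,3,2,4,3,4,7,6,3,2,1,5,4,3,2,1,0,1,2,3,4,5,1,2,3,6,7,5,6,1,5,2,1,0,1,2,5,1,6,5,6,3,4,2,3,7,6,1,2,3,7,4,3,2,1]) (Tr.leaf [])))) (Tr.node (Tr.node (Tr.node (Tr.leaf [3,2,3,2,3,2]) (Tr.leaf [])) (Tr.node (Tr.leaf [4,5,1,2,3,6,7,5,6,1,5,2,1,0,1,2,5,1,6,5,6,3,4,2,3,7,6,1,2,3,7,4,3,2,1,0,1,2,3,4,7,3,2,1,6,7,3,2,4,3,4,7,6,3,2,1,5,4,3,2,1,0,1,2,3]) (Tr.leaf []))) (Tr.node (Tr.node (Tr.leaf [4,6,4,6]) (Tr.leaf [])) (Tr.node (Tr.leaf [1,6,7,3,2,4,3,6,5,6,1,5,2,1,0,1,2,5,1,6,5,7,6,3,2,1,5,4,3,2,1,0,1,2,3,4,5,1,2,3,6,7,4,3,4,2,3,7,6,1,2,3,7,4,3,2,1,0,1,2,3,4,7,3,2]) (Tr.leaf []))))) (Tr.node (Tr.node (Tr.node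 (Tr.node (Tr.leaf [1,2,1,2,1,2]) (Tr.leaf [])) (Tr.node (Tr.leaf [6,7,6,7,6,7]) (Tr.leaf []))) (Tr.node (Tr.node (Tr.leaf [0,6,0,6]) (Tr.leaf [])) (Tr.node (Tr.leaf [4,2,3,7,6,1,2,3,7,4,3,2,1,0,1,2,3,4,7,3,2,1,6,7,3,2,4,3,6,5,6,1,5,2,1,0,1,2,5,1,6,5,7,6,3,2,1,5,4,3,2,1,0,1,2,3,4,5,1,2,3,6,7,4,3]) (Tr.leaf [])))) (Tr.node (Tr.node (Tr.node (Tr.leaf [3,4,3,4,3,4]) (Tr.leaf [])) (Tr.node (Tr.leaf [1,6,5,6,3,4,2,3,7,6,1,2,3,7,4,3,2,1,0,1,2,3,4,7,3,2,1,6,7,3,2,4,3,4,7,6,3,2,1,5,4,3,2,1,0,1,2,3,4,5,1,2,3,6,7,5,6,1,5,2,1,0,1,2,5]) (Tr.leaf []))) (Tr.node (Tr.node (Tr.leaf [0,7,0,7]) (Tr.leaf [])) (Tr.node (Tr.leaf [2,5,1,6,5,7,6,3,2,1,5,4,3,2,1,0,1,2,3,4,5,1,2,3,6,7,4,3,4,2,3,7,6,1,2,3,7,4,3,2,1,0,1,2,3,4,7,3,2,1,6,7,3,2,4,3,6,5,6,1,5,2,1,0,1])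 (Tr.leaf [])))))) (Tr.node (Tr.node (Tr.node (Tr.node (Tr.node (Tr.leaf [2,0,2,0]) (Tr.leaf [2,2])) (Tr.node (Tr.leaf [7,5,7,5]) (Tr.leaf []))) (Tr.node (Tr.node (Tr.leaf [5,3,5,3]) (Tr.leaf [])) (Tr.node (Tr.leaf [6,7,3,2,4,3,4,7,6,3,2,1,5,4,3,2,1,0,1,2,3,4,5,1,2,3,6,7,5,6,1,5,2,1,0,1,2,5,1,6,5,6,3,4,2,3,7,6,1,2,3,7,4,3,2,1,0,1,2,3,4,7,3,2,1]) (Tr.leaf [])))) (Tr.node (Tr.node (Tr.node (Tr.leaf [4,1,4,1]) (Tr.leaf [])) (Tr.node (Tr.leaf [6,1,5,2,1,0,1,2,5,1,6,5,6,3,4,2,3,7,6,1,2,3,7,4,3,2,1,0,1,2,3,4,7,3,2,1,6,7,3,2,4,3,4,7,6,3,2,1,5,4,3,2,1,0,1,2,3,4,5,1,2,3,6,7,5]) (Tr.leaf []))) (Tr.node (Tr.node (Tr.leaf [6,5,6,5,6,5]) (Tr.leaf [])) (Tr.node (Tr.leaf [5,6,1,5,2,1,0,1,2,5,1,6,5,7,6,3,2,1,5,4,3,2,1,0,1,2,3,4,5,1,2,3,6,7,4,3,4,2,3,7,6,1,2,3,7,4,3,2,1,0,1,2,3,4,7,3,2,1,6,7,3,2,4,3,6])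 (Tr.leaf []))))) (Tr.node (Tr.node (Tr.node (Tr.node (Tr.leaf [3,1,3,1]) (Tr.leaf [])) (Tr.node (Tr.leaf [5,4,3,2,1,0,1,2,3,4,5,1,2,3,6,7,5,6,1,5,2,1,0,1,2,5,1,6,5,6,3,4,2,3,7,6,1,2,3,7,4,3,2,1,0,1,2,3,4,7,3,2,1,6,7,3,2,4,3,4,7,6,3,2,1]) (Tr.leaf []))) (Tr.node (Tr.node (Tr.leaf [6,2,6,2]) (Tr.leaf [])) (Tr.node (Tr.leaf [4,3,2,1,0,1,2,3,4,7,3,2,1,6,7,3,2,4,3,6,5,6,1,5,2,1,0,1,2,5,1,6,5,7,6,3,2,1,5,4,3,2,1,0,1,2,3,4,5,1,2,3,6,7,4,3,4,2,3,7,6,1,2,3,7]) (Tr.leaf [])))) (Tr.node (Tr.node (Tr.node (Tr.leaf [0,5,0,5]) (Tr.leaf [])) (Tr.node (Tr.leaf [6,1,2,3,7,4,3,2,1,0,1,2,3,4,7,3,2,1,6,7,3,2,4,3,4,7,6,3,2,1,5,4,3,2,1,0,1,2,3,4,5,1,2,3,6,7,5,6,1,5,2,1,0,1,2,5,1,6,5,6,3,4,2,3,7]) (Tr.leaf []))) (Tr.node (Tr.node (Tr.leaf [7,2,7,2]) (Tr.leaf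 [])) (Tr.node (Tr.leaf [1,5,4,3,2,1,0,1,2,3,4,5,1,2,3,6,7,4,3,4,2,3,7,6,1,2,3,7,4,3,2,1,0,1,2,3,4,7,3,2,1,6,7,3,2,4,3,6,5,6,1,5,2,1,0,1,2,5,1,6,5,7,6,3,2]) (Tr.leaf []))))))) (Tr.node (Tr.node (Tr.node (Tr.node (Tr.node (Tr.node (Tr.leaf [0,1,0,1,0,1]) (Tr.leaf [6,7,4,3,4,2,3,7,6,1,2,3,7,4,3,2,1,0,1,2,3,4,7,3,2,1,6,7,3,2,4,3,6,5,6,1,5,2,1,0,1,2,5,1,6,5,7,6,3,2,1,5,4,3,2,1,0,1,2,3,4,5,1,2,3])) (Tr.node (Tr.leaf [4,7,4,7]) (Tr.leaf []))) (Tr.node (Tr.node (Tr.leaf [5,3,5,3]) (Tr.leaf [])) (Tr.node (Tr.leaf [7,3,2,1,6,7,3,2,4,3,4,7,6,3,2,1,5,4,3,2,1,0,1,2,3,4,5,1,2,3,6,7,5,6,1,5,2,1,0,1,2,5,1,6,5,6,3,4,2,3,7,6,1,2,3,7,4,3,2,1,0,1,2,3,4]) (Tr.leaf [])))) (Tr.node (Tr.node (Tr.node (Tr.leaf [0,4,0,4]) (Tr.leaf [])) (Tr.node (Tr.leaf [3,6,7,5,6,1,5,2,1,0,1,2,5,1,6,5,6,3,4,2,3,7,6,1,2,3,7,4,3,2,1,0,1,2,3,4,7,3,2,1,6,7,3,2,4,3,4,7,6,3,2,1,5,4,3,2,1,0,1,2,3,4,5,1,2])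 (Tr.leaf []))) (Tr.node (Tr.node (Tr.leaf [6,5,6,5,6,5]) (Tr.leaf [])) (Tr.node (Tr.leaf [2,4,3,6,5,6,1,5,2,1,0,1,2,5,1,6,5,7,6,3,2,1,5,4,3,2,1,0,1,2,3,4,5,1,2,3,6,7,4,3,4,2,3,7,6,1,2,3,7,4,3,2,1,0,1,2,3,4,7,3,2,1,6,7,3]) (Tr.leaf []))))) (Tr.node (Tr.node (Tr.node (Tr.node (Tr.leaf [0,3,0,3]) (Tr.leaf [])) (Tr.node (Tr.leaf [7,6,3,2,1,5,4,3,2,1,0,1,2,3,4,5,1,2,3,6,7,5,6,1,5,2,1,0,1,2,5,1,6,5,6,3,4,2,3,7,6,1,2,3,7,4,3,2,1,0,1,2,3,4,7,3,2,1,6,7,3,2,4,3,4]) (Tr.leaf []))) (Tr.node (Tr.node (Tr.leaf [1,6,1,6]) (Tr.leaf [])) (Tr.node (Tr.leaf [1,2,3,7,4,3,2,1,0,1,2,3,4,7,3,2,1,6,7,3,2,4,3,6,5,6,1,5,2,1,0,1,2,5,1,6,5,7,6,3,2,1,5,4,3,2,1,0,1,2,3,4,5,1,2,3,6,7,4,3,4,2,3,7,6]) (Tr.leaf [])))) (Tr.node (Tr.node (Tr.node (Tr.leaf [3,4,3,4,3,4])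 (Tr.leaf [])) (Tr.node (Tr.leaf [4,2,3,7,6,1,2,3,7,4,3,2,1,0,1,2,3,4,7,3,2,1,6,7,3,2,4,3,4,7,6,3,2,1,5,4,3,2,1,0,1,2,3,4,5,1,2,3,6,7,5,6,1,5,2,1,0,1,2,5,1,6,5,6,3]) (Tr.leaf []))) (Tr.node (Tr.node (Tr.leaf [1,7,1,7]) (Tr.leaf [])) (Tr.node (Tr.leaf [5,7,6,3,2,1,5,4,3,2,1,0,1,2,3,4,5,1,2,3,6,7,4,3,4,2,3,7,6,1,2,3,7,4,3,2,1,0,1,2,3,4,7,3,2,1,6,7,3,2,4,3,6,5,6,1,5,2,1,0,1,2,5,1,6]) (Tr.leaf [])))))) (Tr.node (Tr.node (Tr.node (Tr.node (Tr.node (Tr.leaf [2,1,2,1,2,1]) (Tr.leaf [6,6])) (Tr.node (Tr.leaf [6,7,6,7,6,7]) (Tr.leaf []))) (Tr.node (Tr.node (Tr.leaf [4,5,4,5]) (Tr.leaf [])) (Tr.node (Tr.leaf [4,3,4,7,6,3,2,1,5,4,3,2,1,0,1,2,3,4,5,1,2,3,6,7,5,6,1,5,2,1,0,1,2,5,1,6,5,6,3,4,2,3,7,6,1,2,3,7,4,3,2,1,0,1,2,3,4,7,3,2,1,6,7,3,2]) (Tr.leaf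 [])))) (Tr.node (Tr.node (Tr.node (Tr.leaf [2,4,2,4]) (Tr.leaf [])) (Tr.node (Tr.leaf [1,0,1,2,5,1,6,5,6,3,4,2,3,7,6,1,2,3,7,4,3,2,1,0,1,2,3,4,7,3,2,1,6,7,3,2,4,3,4,7,6,3,2,1,5,4,3,2,1,0,1,2,3,4,5,1,2,3,6,7,5,6,1,5,2]) (Tr.leaf []))) (Tr.node (Tr.node (Tr.leaf [7,0,7,0]) (Tr.leaf [])) (Tr.node (Tr.leaf [2,1,0,1,2,5,1,6,5,7,6,3,2,1,5,4,3,2,1,0,1,2,3,4,5,1,2,3,6,7,4,3,4,2,3,7,6,1,2,3,7,4,3,2,1,0,1,2,3,4,7,3,2,1,6,7,3,2,4,3,6,5,6,1,5]) (Tr.leaf []))))) (Tr.node (Tr.node (Tr.node (Tr.node (Tr.leaf [3,2,3,2,3,2]) (Tr.leaf [])) (Tr.node (Tr.leaf [1,0,1,2,3,4,5,1,2,3,6,7,5,6,1,5,2,1,0,1,2,5,1,6,5,6,3,4,2,3,7,6,1,2,3,7,4,3,2,1,0,1,2,3,4,7,3,2,1,6,7,3,2,4,3,4,7,6,3,2,1,5,4,3,2]) (Tr.leaf []))) (Tr.node (Tr.node (Tr.leaf [6,3,6,3]) (Tr.leaf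 [])) (Tr.node (Tr.leaf [4,7,3,2,1,6,7,3,2,4,3,6,5,6,1,5,2,1,0,1,2,5,1,6,5,7,6,3,2,1,5,4,3,2,1,0,1,2,3,4,5,1,2,3,6,7,4,3,4,2,3,7,6,1,2,3,7,4,3,2,1,0,1,2,3]) (Tr.leaf [])))) (Tr.node (Tr.node (Tr.node (Tr.leaf [1,5,1,5,1,5]) (Tr.leaf [])) (Tr.node (Tr.leaf [4,3,2,1,0,1,2,3,4,7,3,2,1,6,7,3,2,4,3,4,7,6,3,2,1,5,4,3,2,1,0,1,2,3,4,5,1,2,3,6,7,5,6,1,5,2,1,0,1,2,5,1,6,5,6,3,4,2,3,7,6,1,2,3,7]) (Tr.leaf []))) (Tr.node (Tr.node (Tr.leaf [7,3,7,3,7,3]) (Tr.leaf [])) (Tr.node (Tr.leaf [1,0,1,2,3,4,5,1,2,3,6,7,4,3,4,2,3,7,6,1,2,3,7,4,3,2,1,0,1,2,3,4,7,3,2,1,6,7,3,2,4,3,6,5,6,1,5,2,1,0,1,2,5,1,6,5,7,6,3,2,1,5,4,3,2]) (Tr.leaf []))))))))) (Tr.node (Tr.node (Tr.node (Tr.node (Tr.node (Tr.node (Tr.node (Tr.node (Tr.leaf [1,0,1,0,1,0]) (Tr.leaf [3,4,5,1,2,3,6,7,4,3,4,2,3,7,6,1,2,3,7,4,3,2,1,0,1,2,3,4,7,3,2,1,6,7,3,2,4,3,6,5,6,1,5,2,1,0,1,2,5,1,6,5,7,6,3,2,1,5,4,3,2,1,0,1,2]))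 (Tr.node (Tr.leaf [3,7,3,7,3,7]) (Tr.leaf []))) (Tr.node (Tr.node (Tr.leaf [1,5,1,5,1,5]) (Tr.leaf [])) (Tr.node (Tr.leaf [1,0,1,2,3,4,7,3,2,1,6,7,3,2,4,3,4,7,6,3,2,1,5,4,3,2,1,0,1,2,3,4,5,1,2,3,6,7,5,6,1,5,2,1,0,1,2,5,1,6,5,6,3,4,2,3,7,6,1,2,3,7,4,3,2]) (Tr.leaf [])))) (Tr.node (Tr.node (Tr.node (Tr.leaf [2,3,2,3,2,3]) (Tr.leaf [])) (Tr.node (Tr.leaf [3,4,5,1,2,3,6,7,5,6,1,5,2,1,0,1,2,5,1,6,5,6,3,4,2,3,7,6,1,2,3,7,4,3,2,1,0,1,2,3,4,7,3,2,1,6,7,3,2,4,3,4,7,6,3,2,1,5,4,3,2,1,0,1,2]) (Tr.leaf []))) (Tr.node (Tr.node (Tr.leaf [6,4,6,4]) (Tr.leaf [])) (Tr.node (Tr.leaf [2,1,6,7,3,2,4,3,6,5,6,1,5,2,1,0,1,2,5,1,6,5,7,6,3,2,1,5,4,3,2,1,0,1,2,3,4,5,1,2,3,6,7,4,3,4,2,3,7,6,1,2,3,7,4,3,2,1,0,1,2,3,4,7,3]) (Tr.leaf []))))) (Tr.node (Tr.node (Tr.node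 (Tr.node (Tr.leaf [1,2,1,2,1,2]) (Tr.leaf [])) (Tr.node (Tr.leaf [7,6,7,6,7,6]) (Tr.leaf []))) (Tr.node (Tr.node (Tr.leaf [6,0,6,0]) (Tr.leaf [])) (Tr.node (Tr.leaf [3,4,2,3,7,6,1,2,3,7,4,3,2,1,0,1,2,3,4,7,3,2,1,6,7,3,2,4,3,6,5,6,1,5,2,1,0,1,2,5,1,6,5,7,6,3,2,1,5,4,3,2,1,0,1,2,3,4,5,1,2,3,6,7,4]) (Tr.leaf [])))) (Tr.node (Tr.node (Tr.node (Tr.leaf [4,3,4,3,4,3]) (Tr.leaf [])) (Tr.node (Tr.leaf [5,1,6,5,6,3,4,2,3,7,6,1,2,3,7,4,3,2,1,0,1,2,3,4,7,3,2,1,6,7,3,2,4,3,4,7,6,3,2,1,5,4,3,2,1,0,1,2,3,4,5,1,2,3,6,7,5,6,1,5,2,1,0,1,2]) (Tr.leaf []))) (Tr.node (Tr.node (Tr.leaf [0,7,0,7]) (Tr.leaf [])) (Tr.node (Tr.leaf [1,2,5,1,6,5,7,6,3,2,1,5,4,3,2,1,0,1,2,3,4,5,1,2,3,6,7,4,3,4,2,3,7,6,1,2,3,7,4,3,2,1,0,1,2,3,4,7,3,2,1,6,7,3,2,4,3,6,5,6,1,5,2,1,0])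 (Tr.leaf [])))))) (Tr.node (Tr.node (Tr.node (Tr.node (Tr.node (Tr.leaf [0,2,0,2]) (Tr.leaf [1,1])) (Tr.node (Tr.leaf [5,7,5,7]) (Tr.leaf []))) (Tr.node (Tr.node (Tr.leaf [3,5,3,5]) (Tr.leaf [])) (Tr.node (Tr.leaf [1,6,7,3,2,4,3,4,7,6,3,2,1,5,4,3,2,1,0,1,2,3,4,5,1,2,3,6,7,5,6,1,5,2,1,0,1,2,5,1,6,5,6,3,4,2,3,7,6,1,2,3,7,4,3,2,1,0,1,2,3,4,7,3,2]) (Tr.leaf [])))) (Tr.node (Tr.node (Tr.node (Tr.leaf [1,4,1,4]) (Tr.leaf [])) (Tr.node (Tr.leaf [5,6,1,5,2,1,0,1,2,5,1,6,5,6,3,4,2,3,7,6,1,2,3,7,4,3,2,1,0,1,2,3,4,7,3,2,1,6,7,3,2,4,3,4,7,6,3,2,1,5,4,3,2,1,0,1,2,3,4,5,1,2,3,6,7]) (Tr.leaf []))) (Tr.node (Tr.node (Tr.leaf [5,6,5,6,5,6]) (Tr.leaf [])) (Tr.node (Tr.leaf [6,5,6,1,5,2,1,0,1,2,5,1,6,5,7,6,3,2,1,5,4,3,2,1,0,1,2,3,4,5,1,2,3,6,7,4,3,4,2,3,7,6,1,2,3,7,4,3,2,1,0,1,2,3,4,7,3,2,1,6,7,3,2,4,3])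 (Tr.leaf []))))) (Tr.node (Tr.node (Tr.node (Tr.node (Tr.leaf [1,3,1,3]) (Tr.leaf [])) (Tr.node (Tr.leaf [1,5,4,3,2,1,0,1,2,3,4,5,1,2,3,6,7,5,6,1,5,2,1,0,1,2,5,1,6,5,6,3,4,2,3,7,6,1,2,3,7,4,3,2,1,0,1,2,3,4,7,3,2,1,6,7,3,2,4,3,4,7,6,3,2]) (Tr.leaf []))) (Tr.node (Tr.node (Tr.leaf [2,6,2,6]) (Tr.leaf [])) (Tr.node (Tr.leaf [7,4,3,2,1,0,1,2,3,4,7,3,2,1,6,7,3,2,4,3,6,5,6,1,5,2,1,0,1,2,5,1,6,5,7,6,3,2,1,5,4,3,2,1,0,1,2,3,4,5,1,2,3,6,7,4,3,4,2,3,7,6,1,2,3]) (Tr.leaf [])))) (Tr.node (Tr.node (Tr.node (Tr.leaf [5,0,5,0]) (Tr.leaf [])) (Tr.node (Tr.leaf [7,6,1,2,3,7,4,3,2,1,0,1,2,3,4,7,3,2,1,6,7,3,2,4,3,4,7,6,3,2,1,5,4,3,2,1,0,1,2,3,4,5,1,2,3,6,7,5,6,1,5,2,1,0,1,2,5,1,6,5,6,3,4,2,3]) (Tr.leaf []))) (Tr.node (Tr.node (Tr.leaf [2,7,2,7]) (Tr.leaf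 [])) (Tr.node (Tr.leaf [2,1,5,4,3,2,1,0,1,2,3,4,5,1,2,3,6,7,4,3,4,2,3,7,6,1,2,3,7,4,3,2,1,0,1,2,3,4,7,3,2,1,6,7,3,2,4,3,6,5,6,1,5,2,1,0,1,2,5,1,6,5,7,6,3]) (Tr.leaf []))))))) (Tr.node (Tr.node (Tr.node (Tr.node (Tr.node (Tr.node (Tr.leaf [1,0,1,0,1,0]) (Tr.leaf [3,6,7,4,3,4,2,3,7,6,1,2,3,7,4,3,2,1,0,1,2,3,4,7,3,2,1,6,7,3,2,4,3,6,5,6,1,5,2,1,0,1,2,5,1,6,5,7,6,3,2,1,5,4,3,2,1,0,1,2,3,4,5,1,2])) (Tr.node (Tr.leaf [7,4,7,4]) (Tr.leaf []))) (Tr.node (Tr.node (Tr.leaf [2,5,2,5]) (Tr.leaf [])) (Tr.node (Tr.leaf [4,7,3,2,1,6,7,3,2,4,3,4,7,6,3,2,1,5,4,3,2,1,0,1,2,3,4,5,1,2,3,6,7,5,6,1,5,2,1,0,1,2,5,1,6,5,6,3,4,2,3,7,6,1,2,3,7,4,3,2,1,0,1,2,3]) (Tr.leaf [])))) (Tr.node (Tr.node (Tr.node (Tr.leaf [4,0,4,0]) (Tr.leaf [])) (Tr.node (Tr.leaf [2,3,6,7,5,6,1,5,2,1,0,1,2,5,1,6,5,6,3,4,2,3,7,6,1,2,3,7,4,3,2,1,0,1,2,3,4,7,3,2,1,6,7,3,2,4,3,4,7,6,3,2,1,5,4,3,2,1,0,1,2,3,4,5,1])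 (Tr.leaf []))) (Tr.node (Tr.node (Tr.leaf [6,4,6,4]) (Tr.leaf [])) (Tr.node (Tr.leaf [3,2,4,3,6,5,6,1,5,2,1,0,1,2,5,1,6,5,7,6,3,2,1,5,4,3,2,1,0,1,2,3,4,5,1,2,3,6,7,4,3,4,2,3,7,6,1,2,3,7,4,3,2,1,0,1,2,3,4,7,3,2,1,6,7]) (Tr.leaf []))))) (Tr.node (Tr.node (Tr.node (Tr.node (Tr.leaf [3,0,3,0]) (Tr.leaf [])) (Tr.node (Tr.leaf [6,7,6,7,6,7]) (Tr.leaf []))) (Tr.node (Tr.node (Tr.leaf [6,1,6,1]) (Tr.leaf [])) (Tr.node (Tr.leaf [6,1,2,3,7,4,3,2,1,0,1,2,3,4,7,3,2,1,6,7,3,2,4,3,6,5,6,1,5,2,1,0,1,2,5,1,6,5,7,6,3,2,1,5,4,3,2,1,0,1,2,3,4,5,1,2,3,6,7,4,3,4,2,3,7]) (Tr.leaf [])))) (Tr.node (Tr.node (Tr.node (Tr.leaf [4,3,4,3,4,3]) (Tr.leaf [])) (Tr.node (Tr.leaf [6,3,4,2,3,7,6,1,2,3,7,4,3,2,1,0,1,2,3,4,7,3,2,1,6,7,3,2,4,3,4,7,6,3,2,1,5,4,3,2,1,0,1,2,3,4,5,1,2,3,6,7,5,6,1,5,2,1,0,1,2,5,1,6,5])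 (Tr.leaf []))) (Tr.node (Tr.node (Tr.leaf [7,1,7,1]) (Tr.leaf [])) (Tr.node (Tr.leaf [6,5,7,6,3,2,1,5,4,3,2,1,0,1,2,3,4,5,1,2,3,6,7,4,3,4,2,3,7,6,1,2,3,7,4,3,2,1,0,1,2,3,4,7,3,2,1,6,7,3,2,4,3,6,5,6,1,5,2,1,0,1,2,5,1]) (Tr.leaf [])))))) (Tr.node (Tr.node (Tr.node (Tr.node (Tr.node (Tr.leaf [1,2,1,2,1,2]) (Tr.leaf [5,5])) (Tr.node (Tr.leaf [7,6,7,6,7,6]) (Tr.leaf []))) (Tr.node (Tr.node (Tr.leaf [5,4,5,4]) (Tr.leaf [])) (Tr.node (Tr.leaf [2,4,3,4,7,6,3,2,1,5,4,3,2,1,0,1,2,3,4,5,1,2,3,6,7,5,6,1,5,2,1,0,1,2,5,1,6,5,6,3,4,2,3,7,6,1,2,3,7,4,3,2,1,0,1,2,3,4,7,3,2,1,6,7,3]) (Tr.leaf [])))) (Tr.node (Tr.node (Tr.node (Tr.leaf [4,2,4,2]) (Tr.leaf [])) (Tr.node (Tr.leaf [2,1,0,1,2,5,1,6,5,6,3,4,2,3,7,6,1,2,3,7,4,3,2,1,0,1,2,3,4,7,3,2,1,6,7,3,2,4,3,4,7,6,3,2,1,5,4,3,2,1,0,1,2,3,4,5,1,2,3,6,7,5,6,1,5])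 (Tr.leaf []))) (Tr.node (Tr.node (Tr.leaf [5,6,5,6,5,6]) (Tr.leaf [])) (Tr.node (Tr.leaf [5,2,1,0,1,2,5,1,6,5,7,6,3,2,1,5,4,3,2,1,0,1,2,3,4,5,1,2,3,6,7,4,3,4,2,3,7,6,1,2,3,7,4,3,2,1,0,1,2,3,4,7,3,2,1,6,7,3,2,4,3,6,5,6,1]) (Tr.leaf []))))) (Tr.node (Tr.node (Tr.node (Tr.node (Tr.leaf [2,3,2,3,2,3]) (Tr.leaf [])) (Tr.node (Tr.leaf [2,1,0,1,2,3,4,5,1,2,3,6,7,5,6,1,5,2,1,0,1,2,5,1,6,5,6,3,4,2,3,7,6,1,2,3,7,4,3,2,1,0,1,2,3,4,7,3,2,1,6,7,3,2,4,3,4,7,6,3,2,1,5,4,3]) (Tr.leaf []))) (Tr.node (Tr.node (Tr.leaf [3,6,3,6]) (Tr.leaf [])) (Tr.node (Tr.leaf [0,1,2,3,4,7,3,2,1,6,7,3,2,4,3,6,5,6,1,5,2,1,0,1,2,5,1,6,5,7,6,3,2,1,5,4,3,2,1,0,1,2,3,4,5,1,2,3,6,7,4,3,4,2,3,7,6,1,2,3,7,4,3,2,1]) (Tr.leaf [])))) (Tr.node (Tr.node (Tr.node (Tr.leaf [5,1,5,1,5,1])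 (Tr.leaf [])) (Tr.node (Tr.leaf [7,4,3,2,1,0,1,2,3,4,7,3,2,1,6,7,3,2,4,3,4,7,6,3,2,1,5,4,3,2,1,0,1,2,3,4,5,1,2,3,6,7,5,6,1,5,2,1,0,1,2,5,1,6,5,6,3,4,2,3,7,6,1,2,3]) (Tr.leaf []))) (Tr.node (Tr.node (Tr.leaf [3,7,3,7,3,7]) (Tr.leaf [])) (Tr.node (Tr.leaf [2,1,0,1,2,3,4,5,1,2,3,6,7,4,3,4,2,3,7,6,1,2,3,7,4,3,2,1,0,1,2,3,4,7,3,2,1,6,7,3,2,4,3,6,5,6,1,5,2,1,0,1,2,5,1,6,5,7,6,3,2,1,5,4,3]) (Tr.leaf [])))))))) (Tr.node (Tr.node (Tr.node (Tr.node (Tr.node (Tr.node (Tr.node (Tr.leaf [1,0,1,0,1,0]) (Tr.leaf [5,1,2,3,6,7,4,3,4,2,3,7,6,1,2,3,7,4,3,2,1,0,1,2,3,4,7,3,2,1,6,7,3,2,4,3,6,5,6,1,5,2,1,0,1,2,5,1,6,5,7,6,3,2,1,5,4,3,2,1,0,1,2,3,4])) (Tr.node (Tr.leaf [7,4,7,4]) (Tr.leaf []))) (Tr.node (Tr.node (Tr.leaf [2,5,2,5]) (Tr.leaf [])) (Tr.node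 (Tr.leaf [2,3,4,7,3,2,1,6,7,3,2,4,3,4,7,6,3,2,1,5,4,3,2,1,0,1,2,3,4,5,1,2,3,6,7,5,6,1,5,2,1,0,1,2,5,1,6,5,6,3,4,2,3,7,6,1,2,3,7,4,3,2,1,0,1]) (Tr.leaf [])))) (Tr.node (Tr.node (Tr.node (Tr.leaf [4,0,4,0]) (Tr.leaf [])) (Tr.node (Tr.leaf [5,1,2,3,6,7,5,6,1,5,2,1,0,1,2,5,1,6,5,6,3,4,2,3,7,6,1,2,3,7,4,3,2,1,0,1,2,3,4,7,3,2,1,6,7,3,2,4,3,4,7,6,3,2,1,5,4,3,2,1,0,1,2,3,4]) (Tr.leaf []))) (Tr.node (Tr.node (Tr.leaf [6,4,6,4]) (Tr.leaf [])) (Tr.node (Tr.leaf [6,7,3,2,4,3,6,5,6,1,5,2,1,0,1,2,5,1,6,5,7,6,3,2,1,5,4,3,2,1,0,1,2,3,4,5,1,2,3,6,7,4,3,4,2,3,7,6,1,2,3,7,4,3,2,1,0,1,2,3,4,7,3,2,1]) (Tr.leaf []))))) (Tr.node (Tr.node (Tr.node (Tr.node (Tr.leaf [3,0,3,0]) (Tr.leaf [])) (Tr.node (Tr.leaf [7,6,7,6,7,6]) (Tr.leaf []))) (Tr.node (Tr.node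 (Tr.leaf [6,1,6,1]) (Tr.leaf [])) (Tr.node (Tr.leaf [3,7,6,1,2,3,7,4,3,2,1,0,1,2,3,4,7,3,2,1,6,7,3,2,4,3,6,5,6,1,5,2,1,0,1,2,5,1,6,5,7,6,3,2,1,5,4,3,2,1,0,1,2,3,4,5,1,2,3,6,7,4,3,4,2]) (Tr.leaf [])))) (Tr.node (Tr.node (Tr.node (Tr.leaf [4,3,4,3,4,3]) (Tr.leaf [])) (Tr.node (Tr.leaf [6,5,6,3,4,2,3,7,6,1,2,3,7,4,3,2,1,0,1,2,3,4,7,3,2,1,6,7,3,2,4,3,4,7,6,3,2,1,5,4,3,2,1,0,1,2,3,4,5,1,2,3,6,7,5,6,1,5,2,1,0,1,2,5,1]) (Tr.leaf []))) (Tr.node (Tr.node (Tr.leaf [7,1,7,1]) (Tr.leaf [])) (Tr.node (Tr.leaf [5,1,6,5,7,6,3,2,1,5,4,3,2,1,0,1,2,3,4,5,1,2,3,6,7,4,3,4,2,3,7,6,1,2,3,7,4,3,2,1,0,1,2,3,4,7,3,2,1,6,7,3,2,4,3,6,5,6,1,5,2,1,0,1,2]) (Tr.leaf [])))))) (Tr.node (Tr.node (Tr.node (Tr.node (Tr.node (Tr.leaf [0,2,0,2]) (Tr.leaf [3,3])) (Tr.node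 (Tr.leaf [5,7,5,7]) (Tr.leaf []))) (Tr.node (Tr.node (Tr.leaf [5,4,5,4]) (Tr.leaf [])) (Tr.node (Tr.leaf [7,3,2,4,3,4,7,6,3,2,1,5,4,3,2,1,0,1,2,3,4,5,1,2,3,6,7,5,6,1,5,2,1,0,1,2,5,1,6,5,6,3,4,2,3,7,6,1,2,3,7,4,3,2,1,0,1,2,3,4,7,3,2,1,6]) (Tr.leaf [])))) (Tr.node (Tr.node (Tr.node (Tr.leaf [1,4,1,4]) (Tr.leaf [])) (Tr.node (Tr.leaf [1,5,2,1,0,1,2,5,1,6,5,6,3,4,2,3,7,6,1,2,3,7,4,3,2,1,0,1,2,3,4,7,3,2,1,6,7,3,2,4,3,4,7,6,3,2,1,5,4,3,2,1,0,1,2,3,4,5,1,2,3,6,7,5,6]) (Tr.leaf []))) (Tr.node (Tr.node (Tr.leaf [5,6,5,6,5,6]) (Tr.leaf [])) (Tr.node (Tr.leaf [6,1,5,2,1,0,1,2,5,1,6,5,7,6,3,2,1,5,4,3,2,1,0,1,2,3,4,5,1,2,3,6,7,4,3,4,2,3,7,6,1,2,3,7,4,3,2,1,0,1,2,3,4,7,3,2,1,6,7,3,2,4,3,6,5]) (Tr.leaf []))))) (Tr.node (Tr.node (Tr.node (Tr.node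 (Tr.leaf [1,3,1,3]) (Tr.leaf [])) (Tr.node (Tr.leaf [4,3,2,1,0,1,2,3,4,5,1,2,3,6,7,5,6,1,5,2,1,0,1,2,5,1,6,5,6,3,4,2,3,7,6,1,2,3,7,4,3,2,1,0,1,2,3,4,7,3,2,1,6,7,3,2,4,3,4,7,6,3,2,1,5]) (Tr.leaf []))) (Tr.node (Tr.node (Tr.leaf [2,6,2,6]) (Tr.leaf [])) (Tr.node (Tr.leaf [3,2,1,0,1,2,3,4,7,3,2,1,6,7,3,2,4,3,6,5,6,1,5,2,1,0,1,2,5,1,6,5,7,6,3,2,1,5,4,3,2,1,0,1,2,3,4,5,1,2,3,6,7,4,3,4,2,3,7,6,1,2,3,7,4]) (Tr.leaf [])))) (Tr.node (Tr.node (Tr.node (Tr.leaf [5,1,5,1,5,1]) (Tr.leaf [])) (Tr.node (Tr.leaf [2,3,7,4,3,2,1,0,1,2,3,4,7,3,2,1,6,7,3,2,4,3,4,7,6,3,2,1,5,4,3,2,1,0,1,2,3,4,5,1,2,3,6,7,5,6,1,5,2,1,0,1,2,5,1,6,5,6,3,4,2,3,7,6,1]) (Tr.leaf []))) (Tr.node (Tr.node (Tr.leaf [2,7,2,7]) (Tr.leaf [])) (Tr.node (Tr.leaf [5,4,3,2,1,0,1,2,3,4,5,1,2,3,6,7,4,3,4,2,3,7,6,1,2,3,7,4,3,2,1,0,1,2,3,4,7,3,2,1,6,7,3,2,4,3,6,5,6,1,5,2,1,0,1,2,5,1,6,5,7,6,3,2,1])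 (Tr.leaf []))))))) (Tr.node (Tr.node (Tr.node (Tr.node (Tr.node (Tr.node (Tr.leaf [1,0,1,0,1,0]) (Tr.leaf [7,4,3,4,2,3,7,6,1,2,3,7,4,3,2,1,0,1,2,3,4,7,3,2,1,6,7,3,2,4,3,6,5,6,1,5,2,1,0,1,2,5,1,6,5,7,6,3,2,1,5,4,3,2,1,0,1,2,3,4,5,1,2,3,6])) (Tr.node (Tr.leaf [7,4,7,4]) (Tr.leaf []))) (Tr.node (Tr.node (Tr.leaf [3,5,3,5]) (Tr.leaf [])) (Tr.node (Tr.leaf [3,2,1,6,7,3,2,4,3,4,7,6,3,2,1,5,4,3,2,1,0,1,2,3,4,5,1,2,3,6,7,5,6,1,5,2,1,0,1,2,5,1,6,5,6,3,4,2,3,7,6,1,2,3,7,4,3,2,1,0,1,2,3,4,7]) (Tr.leaf [])))) (Tr.node (Tr.node (Tr.node (Tr.leaf [0,4,0,4]) (Tr.leaf [])) (Tr.node (Tr.leaf [6,7,5,6,1,5,2,1,0,1,2,5,1,6,5,6,3,4,2,3,7,6,1,2,3,7,4,3,2,1,0,1,2,3,4,7,3,2,1,6,7,3,2,4,3,4,7,6,3,2,1,5,4,3,2,1,0,1,2,3,4,5,1,2,3]) (Tr.leaf []))) (Tr.node (Tr.node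 (Tr.leaf [5,6,5,6,5,6]) (Tr.leaf [])) (Tr.node (Tr.leaf [4,3,6,5,6,1,5,2,1,0,1,2,5,1,6,5,7,6,3,2,1,5,4,3,2,1,0,1,2,3,4,5,1,2,3,6,7,4,3,4,2,3,7,6,1,2,3,7,4,3,2,1,0,1,2,3,4,7,3,2,1,6,7,3,2]) (Tr.leaf []))))) (Tr.node (Tr.node (Tr.node (Tr.node (Tr.leaf [0,3,0,3]) (Tr.leaf [])) (Tr.node (Tr.leaf [6,3,2,1,5,4,3,2,1,0,1,2,3,4,5,1,2,3,6,7,5,6,1,5,2,1,0,1,2,5,1,6,5,6,3,4,2,3,7,6,1,2,3,7,4,3,2,1,0,1,2,3,4,7,3,2,1,6,7,3,2,4,3,4,7]) (Tr.leaf []))) (Tr.node (Tr.node (Tr.leaf [6,1,6,1]) (Tr.leaf [])) (Tr.node (Tr.leaf [2,3,7,4,3,2,1,0,1,2,3,4,7,3,2,1,6,7,3,2,4,3,6,5,6,1,5,2,1,0,1,2,5,1,6,5,7,6,3,2,1,5,4,3,2,1,0,1,2,3,4,5,1,2,3,6,7,4,3,4,2,3,7,6,1]) (Tr.leaf [])))) (Tr.node (Tr.node (Tr.node (Tr.leaf [5,0,5,0]) (Tr.leaf [])) (Tr.node (Tr.leaf [2,3,7,6,1,2,3,7,4,3,2,1,0,1,2,3,4,7,3,2,1,6,7,3,2,4,3,4,7,6,3,2,1,5,4,3,2,1,0,1,2,3,4,5,1,2,3,6,7,5,6,1,5,2,1,0,1,2,5,1,6,5,6,3,4])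 (Tr.leaf []))) (Tr.node (Tr.node (Tr.leaf [7,1,7,1]) (Tr.leaf [])) (Tr.node (Tr.leaf [7,6,3,2,1,5,4,3,2,1,0,1,2,3,4,5,1,2,3,6,7,4,3,4,2,3,7,6,1,2,3,7,4,3,2,1,0,1,2,3,4,7,3,2,1,6,7,3,2,4,3,6,5,6,1,5,2,1,0,1,2,5,1,6,5]) (Tr.leaf [])))))) (Tr.node (Tr.node (Tr.node (Tr.node (Tr.node (Tr.leaf [1,2,1,2,1,2]) (Tr.leaf [7,7])) (Tr.node (Tr.leaf [7,6,7,6,7,6]) (Tr.leaf []))) (Tr.node (Tr.node (Tr.leaf [6,0,6,0]) (Tr.leaf [])) (Tr.node (Tr.leaf [3,4,7,6,3,2,1,5,4,3,2,1,0,1,2,3,4,5,1,2,3,6,7,5,6,1,5,2,1,0,1,2,5,1,6,5,6,3,4,2,3,7,6,1,2,3,7,4,3,2,1,0,1,2,3,4,7,3,2,1,6,7,3,2,4]) (Tr.leaf [])))) (Tr.node (Tr.node (Tr.node (Tr.leaf [4,2,4,2]) (Tr.leaf [])) (Tr.node (Tr.leaf [0,1,2,5,1,6,5,6,3,4,2,3,7,6,1,2,3,7,4,3,2,1,0,1,2,3,4,7,3,2,1,6,7,3,2,4,3,4,7,6,3,2,1,5,4,3,2,1,0,1,2,3,4,5,1,2,3,6,7,5,6,1,5,2,1])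 (Tr.leaf []))) (Tr.node (Tr.node (Tr.leaf [0,7,0,7]) (Tr.leaf [])) (Tr.node (Tr.leaf [1,0,1,2,5,1,6,5,7,6,3,2,1,5,4,3,2,1,0,1,2,3,4,5,1,2,3,6,7,4,3,4,2,3,7,6,1,2,3,7,4,3,2,1,0,1,2,3,4,7,3,2,1,6,7,3,2,4,3,6,5,6,1,5,2]) (Tr.leaf []))))) (Tr.node (Tr.node (Tr.node (Tr.node (Tr.leaf [2,3,2,3,2,3]) (Tr.leaf [])) (Tr.node (Tr.leaf [0,1,2,3,4,5,1,2,3,6,7,5,6,1,5,2,1,0,1,2,5,1,6,5,6,3,4,2,3,7,6,1,2,3,7,4,3,2,1,0,1,2,3,4,7,3,2,1,6,7,3,2,4,3,4,7,6,3,2,1,5,4,3,2,1]) (Tr.leaf []))) (Tr.node (Tr.node (Tr.leaf [3,6,3,6]) (Tr.leaf [])) (Tr.node (Tr.leaf [7,3,2,1,6,7,3,2,4,3,6,5,6,1,5,2,1,0,1,2,5,1,6,5,7,6,3,2,1,5,4,3,2,1,0,1,2,3,4,5,1,2,3,6,7,4,3,4,2,3,7,6,1,2,3,7,4,3,2,1,0,1,2,3,4]) (Tr.leaf [])))) (Tr.node (Tr.node (Tr.node (Tr.leaf [5,1,5,1,5,1])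 (Tr.leaf [])) (Tr.node (Tr.leaf [3,2,1,0,1,2,3,4,7,3,2,1,6,7,3,2,4,3,4,7,6,3,2,1,5,4,3,2,1,0,1,2,3,4,5,1,2,3,6,7,5,6,1,5,2,1,0,1,2,5,1,6,5,6,3,4,2,3,7,6,1,2,3,7,4]) (Tr.leaf []))) (Tr.node (Tr.node (Tr.leaf [3,7,3,7,3,7]) (Tr.leaf [])) (Tr.node (Tr.leaf [0,1,2,3,4,5,1,2,3,6,7,4,3,4,2,3,7,6,1,2,3,7,4,3,2,1,0,1,2,3,4,7,3,2,1,6,7,3,2,4,3,6,5,6,1,5,2,1,0,1,2,5,1,6,5,7,6,3,2,1,5,4,3,2,1]) (Tr.leaf []))))))))))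

/-- The witnesses of the rotations. -/
noncomputable def witT : Tr (Nat × Nat × Bool) := (Tr.node (Tr.node (Tr.node (Tr.node (Tr.node (Tr.node (Tr.node (Tr.node (Tr.node (Tr.leaf (0,0,false)) (Tr.leaf (28,55,true))) (Tr.node (Tr.leaf (24,4,false)) (Tr.leaf (0,0,false)))) (Tr.node (Tr.node (Tr.leaf (11,5,false)) (Tr.leaf (0,0,false))) (Tr.node (Tr.leaf (28,47,false)) (Tr.leaf (0,0,false))))) (Tr.node (Tr.node (Tr.node (Tr.leaf (5,4,false)) (Tr.leaf (0,0,false))) (Tr.node (Tr.leaf (28,12,false)) (Tr.leaf (0,0,false)))) (Tr.node (Tr.node (Tr.leaf (18,1,true)) (Tr.leaf (0,0,false))) (Tr.node (Tr.leaf (28,21,true)) (Tr.leaf (0,0,false)))))) (Tr.node (Tr.node (Tr.node (Tr.node (Tr.leaf (2,4,false)) (Tr.leaf (0,0,false))) (Tr.node (Tr.leaf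 (27,3,false)) (Tr.leaf (0,0,false)))) (Tr.node (Tr.node (Tr.leaf (15,1,false)) (Tr.leaf (0,0,false))) (Tr.node (Tr.leaf (28,64,false)) (Tr.leaf (0,0,false))))) (Tr.node (Tr.node (Tr.node (Tr.leaf (8,3,false)) (Tr.leaf (0,0,false))) (Tr.node (Tr.leaf (28,29,false)) (Tr.leaf (0,0,false)))) (Tr.node (Tr.node (Tr.leaf (21,2,false)) (Tr.leaf (0,0,false))) (Tr.node (Tr.leaf (28,37,true)) (Tr.leaf (0,0,false))))))) (Tr.node (Tr.node (Tr.node (Tr.node (Tr.node (Tr.leaf (1,0,false)) (Tr.leaf (29,0,false))) (Tr.node (Tr.leaf (26,0,false)) (Tr.leaf (0,0,false)))) (Tr.node (Tr.node (Tr.leaf (13,2,false)) (Tr.leaf (0,0,false))) (Tr.node (Tr.leaf (28,56,false)) (Tr.leaf (0,0,false))))) (Tr.node (Tr.node (Tr.node (Tr.leaf (7,0,false)) (Tr.leaf (0,0,false)))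 (Tr.node (Tr.leaf (28,20,false)) (Tr.leaf (0,0,false)))) (Tr.node (Tr.node (Tr.leaf (20,2,false)) (Tr.leaf (0,0,false))) (Tr.node (Tr.leaf (28,29,true)) (Tr.leaf (0,0,false)))))) (Tr.node (Tr.node (Tr.node (Tr.node (Tr.leaf (4,0,false)) (Tr.leaf (0,0,false))) (Tr.node (Tr.leaf (28,3,false)) (Tr.leaf (0,0,false)))) (Tr.node (Tr.node (Tr.leaf (17,0,false)) (Tr.leaf (0,0,false))) (Tr.node (Tr.leaf (28,9,true)) (Tr.leaf (0,0,false))))) (Tr.node (Tr.node (Tr.node (Tr.leaf (10,1,false)) (Tr.leaf (0,0,false))) (Tr.node (Tr.leaf (28,38,false)) (Tr.leaf (0,0,false)))) (Tr.node (Tr.node (Tr.leaf (23,0,false)) (Tr.leaf (0,0,false))) (Tr.node (Tr.leaf (28,45,true)) (Tr.leaf (0,0,false)))))))) (Tr.node (Tr.node (Tr.node (Tr.node (Tr.node (Tr.node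 (Tr.leaf (0,3,false)) (Tr.leaf (28,60,true))) (Tr.node (Tr.leaf (25,1,false)) (Tr.leaf (0,0,false)))) (Tr.node (Tr.node (Tr.leaf (12,2,false)) (Tr.leaf (0,0,false))) (Tr.node (Tr.leaf (28,52,false)) (Tr.leaf (0,0,false))))) (Tr.node (Tr.node (Tr.node (Tr.leaf (6,1,false)) (Tr.leaf (0,0,false))) (Tr.node (Tr.leaf (28,16,false)) (Tr.leaf (0,0,false)))) (Tr.node (Tr.node (Tr.leaf (19,3,false)) (Tr.leaf (0,0,false))) (Tr.node (Tr.leaf (28,25,true)) (Tr.leaf (0,0,false)))))) (Tr.node (Tr.node (Tr.node (Tr.node (Tr.leaf (3,1,false)) (Tr.leaf (0,0,false))) (Tr.node (Tr.leaf (27,2,true)) (Tr.leaf (0,0,false)))) (Tr.node (Tr.node (Tr.leaf (16,1,false)) (Tr.leaf (0,0,false))) (Tr.node (Tr.leaf (28,5,true)) (Tr.leaf (0,0,false))))) (Tr.node (Tr.node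 (Tr.node (Tr.leaf (9,3,false)) (Tr.leaf (0,0,false))) (Tr.node (Tr.leaf (28,33,false)) (Tr.leaf (0,0,false)))) (Tr.node (Tr.node (Tr.leaf (22,1,false)) (Tr.leaf (0,0,false))) (Tr.node (Tr.leaf (28,41,true)) (Tr.leaf (0,0,false))))))) (Tr.node (Tr.node (Tr.node (Tr.node (Tr.node (Tr.leaf (2,0,false)) (Tr.leaf (29,4,false))) (Tr.node (Tr.leaf (26,2,true)) (Tr.leaf (0,0,false)))) (Tr.node (Tr.node (Tr.leaf (14,1,false)) (Tr.leaf (0,0,false))) (Tr.node (Tr.leaf (28,60,false)) (Tr.leaf (0,0,false))))) (Tr.node (Tr.node (Tr.node (Tr.leaf (7,2,true)) (Tr.leaf (0,0,false))) (Tr.node (Tr.leaf (28,24,false)) (Tr.leaf (0,0,false)))) (Tr.node (Tr.node (Tr.leaf (20,1,true)) (Tr.leaf (0,0,false))) (Tr.node (Tr.leaf (28,33,true)) (Tr.leaf (0,0,false))))))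 (Tr.node (Tr.node (Tr.node (Tr.node (Tr.leaf (5,0,false)) (Tr.leaf (0,0,false))) (Tr.node (Tr.leaf (28,7,false)) (Tr.leaf (0,0,false)))) (Tr.node (Tr.node (Tr.leaf (18,0,false)) (Tr.leaf (0,0,false))) (Tr.node (Tr.leaf (28,14,true)) (Tr.leaf (0,0,false))))) (Tr.node (Tr.node (Tr.node (Tr.leaf (11,1,false)) (Tr.leaf (0,0,false))) (Tr.node (Tr.leaf (28,43,false)) (Tr.leaf (0,0,false)))) (Tr.node (Tr.node (Tr.leaf (24,0,false)) (Tr.leaf (0,0,false))) (Tr.node (Tr.leaf (28,51,true)) (Tr.leaf (0,0,false))))))))) (Tr.node (Tr.node (Tr.node (Tr.node (Tr.node (Tr.node (Tr.node (Tr.leaf (0,1,false)) (Tr.leaf (28,58,true))) (Tr.node (Tr.leaf (24,2,true)) (Tr.leaf (0,0,false)))) (Tr.node (Tr.node (Tr.leaf (12,0,false)) (Tr.leaf (0,0,false)))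 (Tr.node (Tr.leaf (28,49,false)) (Tr.leaf (0,0,false))))) (Tr.node (Tr.node (Tr.node (Tr.leaf (5,3,true)) (Tr.leaf (0,0,false))) (Tr.node (Tr.leaf (28,14,false)) (Tr.leaf (0,0,false)))) (Tr.node (Tr.node (Tr.leaf (19,1,false)) (Tr.leaf (0,0,false))) (Tr.node (Tr.leaf (28,23,true)) (Tr.leaf (0,0,false)))))) (Tr.node (Tr.node (Tr.node (Tr.node (Tr.leaf (2,4,true)) (Tr.leaf (0,0,false))) (Tr.node (Tr.leaf (27,5,false)) (Tr.leaf (0,0,false)))) (Tr.node (Tr.node (Tr.leaf (15,3,false)) (Tr.leaf (0,0,false))) (Tr.node (Tr.leaf (28,2,true)) (Tr.leaf (0,0,false))))) (Tr.node (Tr.node (Tr.node (Tr.leaf (9,1,false)) (Tr.leaf (0,0,false))) (Tr.node (Tr.leaf (28,31,false)) (Tr.leaf (0,0,false)))) (Tr.node (Tr.node (Tr.leaf (21,2,true)) (Tr.leaf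 (0,0,false))) (Tr.node (Tr.leaf (28,39,true)) (Tr.leaf (0,0,false))))))) (Tr.node (Tr.node (Tr.node (Tr.node (Tr.node (Tr.leaf (1,2,false)) (Tr.leaf (29,2,false))) (Tr.node (Tr.leaf (26,2,false)) (Tr.leaf (0,0,false)))) (Tr.node (Tr.node (Tr.leaf (13,1,true)) (Tr.leaf (0,0,false))) (Tr.node (Tr.leaf (28,58,false)) (Tr.leaf (0,0,false))))) (Tr.node (Tr.node (Tr.node (Tr.leaf (7,2,false)) (Tr.leaf (0,0,false))) (Tr.node (Tr.leaf (28,22,false)) (Tr.leaf (0,0,false)))) (Tr.node (Tr.node (Tr.leaf (20,4,false)) (Tr.leaf (0,0,false))) (Tr.node (Tr.leaf (28,31,true)) (Tr.leaf (0,0,false)))))) (Tr.node (Tr.node (Tr.node (Tr.node (Tr.leaf (4,2,false)) (Tr.leaf (0,0,false))) (Tr.node (Tr.leaf (28,5,false)) (Tr.leaf (0,0,false)))) (Tr.node (Tr.node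 (Tr.leaf (17,2,false)) (Tr.leaf (0,0,false))) (Tr.node (Tr.leaf (28,11,true)) (Tr.leaf (0,0,false))))) (Tr.node (Tr.node (Tr.node (Tr.leaf (10,3,false)) (Tr.leaf (0,0,false))) (Tr.node (Tr.leaf (28,40,false)) (Tr.leaf (0,0,false)))) (Tr.node (Tr.node (Tr.leaf (23,2,false)) (Tr.leaf (0,0,false))) (Tr.node (Tr.leaf (28,48,true)) (Tr.leaf (0,0,false)))))))) (Tr.node (Tr.node (Tr.node (Tr.node (Tr.node (Tr.node (Tr.leaf (0,5,false)) (Tr.leaf (28,63,true))) (Tr.node (Tr.leaf (25,3,false)) (Tr.leaf (0,0,false)))) (Tr.node (Tr.node (Tr.leaf (13,0,false)) (Tr.leaf (0,0,false))) (Tr.node (Tr.leaf (28,54,false)) (Tr.leaf (0,0,false))))) (Tr.node (Tr.node (Tr.node (Tr.leaf (6,3,false)) (Tr.leaf (0,0,false))) (Tr.node (Tr.leaf (28,18,false)) (Tr.leaf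 (0,0,false)))) (Tr.node (Tr.node (Tr.leaf (20,0,false)) (Tr.leaf (0,0,false))) (Tr.node (Tr.leaf (28,27,true)) (Tr.leaf (0,0,false)))))) (Tr.node (Tr.node (Tr.node (Tr.node (Tr.leaf (3,3,false)) (Tr.leaf (0,0,false))) (Tr.node (Tr.leaf (28,0,false)) (Tr.leaf (0,0,false)))) (Tr.node (Tr.node (Tr.leaf (16,3,false)) (Tr.leaf (0,0,false))) (Tr.node (Tr.leaf (28,7,true)) (Tr.leaf (0,0,false))))) (Tr.node (Tr.node (Tr.node (Tr.leaf (9,5,false)) (Tr.leaf (0,0,false))) (Tr.node (Tr.leaf (28,36,false)) (Tr.leaf (0,0,false)))) (Tr.node (Tr.node (Tr.leaf (22,3,false)) (Tr.leaf (0,0,false))) (Tr.node (Tr.leaf (28,43,true)) (Tr.leaf (0,0,false))))))) (Tr.node (Tr.node (Tr.node (Tr.node (Tr.node (Tr.leaf (2,2,false)) (Tr.leaf (29,6,false))) (Tr.node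 (Tr.leaf (27,1,false)) (Tr.leaf (0,0,false)))) (Tr.node (Tr.node (Tr.leaf (14,3,false)) (Tr.leaf (0,0,false))) (Tr.node (Tr.leaf (28,62,false)) (Tr.leaf (0,0,false))))) (Tr.node (Tr.node (Tr.node (Tr.leaf (8,1,false)) (Tr.leaf (0,0,false))) (Tr.node (Tr.leaf (28,26,false)) (Tr.leaf (0,0,false)))) (Tr.node (Tr.node (Tr.leaf (21,0,false)) (Tr.leaf (0,0,false))) (Tr.node (Tr.leaf (28,35,true)) (Tr.leaf (0,0,false)))))) (Tr.node (Tr.node (Tr.node (Tr.node (Tr.leaf (5,2,false)) (Tr.leaf (0,0,false))) (Tr.node (Tr.leaf (28,9,false)) (Tr.leaf (0,0,false)))) (Tr.node (Tr.node (Tr.leaf (18,2,false)) (Tr.leaf (0,0,false))) (Tr.node (Tr.leaf (28,19,true)) (Tr.leaf (0,0,false))))) (Tr.node (Tr.node (Tr.node (Tr.leaf (11,3,false)) (Tr.leaf (0,0,false)))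 (Tr.node (Tr.leaf (28,45,false)) (Tr.leaf (0,0,false)))) (Tr.node (Tr.node (Tr.leaf (24,2,false)) (Tr.leaf (0,0,false))) (Tr.node (Tr.leaf (28,53,true)) (Tr.leaf (0,0,false)))))))))) (Tr.node (Tr.node (Tr.node (Tr.node (Tr.node (Tr.node (Tr.node (Tr.node (Tr.leaf (0,0,false)) (Tr.leaf (28,57,true))) (Tr.node (Tr.leaf (24,5,false)) (Tr.leaf (0,0,false)))) (Tr.node (Tr.node (Tr.leaf (11,2,true)) (Tr.leaf (0,0,false))) (Tr.node (Tr.leaf (28,48,false)) (Tr.leaf (0,0,false))))) (Tr.node (Tr.node (Tr.node (Tr.leaf (5,5,false)) (Tr.leaf (0,0,false))) (Tr.node (Tr.leaf (28,13,false)) (Tr.leaf (0,0,false)))) (Tr.node (Tr.node (Tr.leaf (19,0,false)) (Tr.leaf (0,0,false))) (Tr.node (Tr.leaf (28,22,true)) (Tr.leaf (0,0,false)))))) (Tr.node (Tr.node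 (Tr.node (Tr.node (Tr.leaf (2,5,false)) (Tr.leaf (0,0,false))) (Tr.node (Tr.leaf (27,4,false)) (Tr.leaf (0,0,false)))) (Tr.node (Tr.node (Tr.leaf (15,2,false)) (Tr.leaf (0,0,false))) (Tr.node (Tr.leaf (28,1,true)) (Tr.leaf (0,0,false))))) (Tr.node (Tr.node (Tr.node (Tr.leaf (9,0,false)) (Tr.leaf (0,0,false))) (Tr.node (Tr.leaf (28,30,false)) (Tr.leaf (0,0,false)))) (Tr.node (Tr.node (Tr.leaf (21,3,false)) (Tr.leaf (0,0,false))) (Tr.node (Tr.leaf (28,38,true)) (Tr.leaf (0,0,false))))))) (Tr.node (Tr.node (Tr.node (Tr.node (Tr.node (Tr.leaf (1,1,false)) (Tr.leaf (29,1,false))) (Tr.node (Tr.leaf (26,1,false)) (Tr.leaf (0,0,false)))) (Tr.node (Tr.node (Tr.leaf (13,3,false)) (Tr.leaf (0,0,false))) (Tr.node (Tr.leaf (28,57,false)) (Tr.leaf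 (0,0,false))))) (Tr.node (Tr.node (Tr.node (Tr.leaf (7,1,false)) (Tr.leaf (0,0,false))) (Tr.node (Tr.leaf (28,21,false)) (Tr.leaf (0,0,false)))) (Tr.node (Tr.node (Tr.leaf (20,3,false)) (Tr.leaf (0,0,false))) (Tr.node (Tr.leaf (28,30,true)) (Tr.leaf (0,0,false)))))) (Tr.node (Tr.node (Tr.node (Tr.node (Tr.leaf (4,1,false)) (Tr.leaf (0,0,false))) (Tr.node (Tr.leaf (28,4,false)) (Tr.leaf (0,0,false)))) (Tr.node (Tr.node (Tr.leaf (17,1,false)) (Tr.leaf (0,0,false))) (Tr.node (Tr.leaf (28,10,true)) (Tr.leaf (0,0,false))))) (Tr.node (Tr.node (Tr.node (Tr.leaf (10,2,false)) (Tr.leaf (0,0,false))) (Tr.node (Tr.leaf (28,39,false)) (Tr.leaf (0,0,false)))) (Tr.node (Tr.node (Tr.leaf (23,1,false)) (Tr.leaf (0,0,false))) (Tr.node (Tr.leaf (28,47,true))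 (Tr.leaf (0,0,false)))))))) (Tr.node (Tr.node (Tr.node (Tr.node (Tr.node (Tr.node (Tr.leaf (0,4,false)) (Tr.leaf (28,62,true))) (Tr.node (Tr.leaf (25,2,false)) (Tr.leaf (0,0,false)))) (Tr.node (Tr.node (Tr.leaf (12,3,false)) (Tr.leaf (0,0,false))) (Tr.node (Tr.leaf (28,53,false)) (Tr.leaf (0,0,false))))) (Tr.node (Tr.node (Tr.node (Tr.leaf (6,2,false)) (Tr.leaf (0,0,false))) (Tr.node (Tr.leaf (28,17,false)) (Tr.leaf (0,0,false)))) (Tr.node (Tr.node (Tr.leaf (19,1,true)) (Tr.leaf (0,0,false))) (Tr.node (Tr.leaf (28,26,true)) (Tr.leaf (0,0,false)))))) (Tr.node (Tr.node (Tr.node (Tr.node (Tr.leaf (3,2,false)) (Tr.leaf (0,0,false))) (Tr.node (Tr.leaf (27,4,true)) (Tr.leaf (0,0,false)))) (Tr.node (Tr.node (Tr.leaf (16,2,false)) (Tr.leaf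 (0,0,false))) (Tr.node (Tr.leaf (28,6,true)) (Tr.leaf (0,0,false))))) (Tr.node (Tr.node (Tr.node (Tr.leaf (9,4,false)) (Tr.leaf (0,0,false))) (Tr.node (Tr.leaf (28,34,false)) (Tr.leaf (0,0,false)))) (Tr.node (Tr.node (Tr.leaf (22,2,false)) (Tr.leaf (0,0,false))) (Tr.node (Tr.leaf (28,42,true)) (Tr.leaf (0,0,false))))))) (Tr.node (Tr.node (Tr.node (Tr.node (Tr.node (Tr.leaf (2,1,false)) (Tr.leaf (29,5,false))) (Tr.node (Tr.leaf (27,0,false)) (Tr.leaf (0,0,false)))) (Tr.node (Tr.node (Tr.leaf (14,2,false)) (Tr.leaf (0,0,false))) (Tr.node (Tr.leaf (28,61,false)) (Tr.leaf (0,0,false))))) (Tr.node (Tr.node (Tr.node (Tr.leaf (8,0,false)) (Tr.leaf (0,0,false))) (Tr.node (Tr.leaf (28,25,false)) (Tr.leaf (0,0,false)))) (Tr.node (Tr.node (Tr.leaf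 (20,2,true)) (Tr.leaf (0,0,false))) (Tr.node (Tr.leaf (28,34,true)) (Tr.leaf (0,0,false)))))) (Tr.node (Tr.node (Tr.node (Tr.node (Tr.leaf (5,1,false)) (Tr.leaf (0,0,false))) (Tr.node (Tr.leaf (28,8,false)) (Tr.leaf (0,0,false)))) (Tr.node (Tr.node (Tr.leaf (18,1,false)) (Tr.leaf (0,0,false))) (Tr.node (Tr.leaf (28,15,true)) (Tr.leaf (0,0,false))))) (Tr.node (Tr.node (Tr.node (Tr.leaf (11,2,false)) (Tr.leaf (0,0,false))) (Tr.node (Tr.leaf (28,44,false)) (Tr.leaf (0,0,false)))) (Tr.node (Tr.node (Tr.leaf (24,1,false)) (Tr.leaf (0,0,false))) (Tr.node (Tr.leaf (28,52,true)) (Tr.leaf (0,0,false))))))))) (Tr.node (Tr.node (Tr.node (Tr.node (Tr.node (Tr.node (Tr.node (Tr.leaf (0,2,false)) (Tr.leaf (28,59,true))) (Tr.node (Tr.leaf (25,0,false))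 (Tr.leaf (0,0,false)))) (Tr.node (Tr.node (Tr.leaf (12,1,false)) (Tr.leaf (0,0,false))) (Tr.node (Tr.leaf (28,51,false)) (Tr.leaf (0,0,false))))) (Tr.node (Tr.node (Tr.node (Tr.leaf (6,0,false)) (Tr.leaf (0,0,false))) (Tr.node (Tr.leaf (28,15,false)) (Tr.leaf (0,0,false)))) (Tr.node (Tr.node (Tr.leaf (19,2,false)) (Tr.leaf (0,0,false))) (Tr.node (Tr.leaf (28,24,true)) (Tr.leaf (0,0,false)))))) (Tr.node (Tr.node (Tr.node (Tr.node (Tr.leaf (3,0,false)) (Tr.leaf (0,0,false))) (Tr.node (Tr.leaf (27,1,true)) (Tr.leaf (0,0,false)))) (Tr.node (Tr.node (Tr.leaf (16,0,false)) (Tr.leaf (0,0,false))) (Tr.node (Tr.leaf (28,4,true)) (Tr.leaf (0,0,false))))) (Tr.node (Tr.node (Tr.node (Tr.leaf (9,2,false)) (Tr.leaf (0,0,false))) (Tr.node (Tr.leaf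 (28,32,false)) (Tr.leaf (0,0,false)))) (Tr.node (Tr.node (Tr.leaf (22,0,false)) (Tr.leaf (0,0,false))) (Tr.node (Tr.leaf (28,40,true)) (Tr.leaf (0,0,false))))))) (Tr.node (Tr.node (Tr.node (Tr.node (Tr.node (Tr.leaf (1,3,false)) (Tr.leaf (29,3,false))) (Tr.node (Tr.leaf (26,3,false)) (Tr.leaf (0,0,false)))) (Tr.node (Tr.node (Tr.leaf (14,0,false)) (Tr.leaf (0,0,false))) (Tr.node (Tr.leaf (28,59,false)) (Tr.leaf (0,0,false))))) (Tr.node (Tr.node (Tr.node (Tr.leaf (7,3,false)) (Tr.leaf (0,0,false))) (Tr.node (Tr.leaf (28,23,false)) (Tr.leaf (0,0,false)))) (Tr.node (Tr.node (Tr.leaf (20,5,false)) (Tr.leaf (0,0,false))) (Tr.node (Tr.leaf (28,32,true)) (Tr.leaf (0,0,false)))))) (Tr.node (Tr.node (Tr.node (Tr.node (Tr.leaf (4,3,false)) (Tr.leaf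 (0,0,false))) (Tr.node (Tr.leaf (28,6,false)) (Tr.leaf (0,0,false)))) (Tr.node (Tr.node (Tr.leaf (17,3,false)) (Tr.leaf (0,0,false))) (Tr.node (Tr.leaf (28,12,true)) (Tr.leaf (0,0,false))))) (Tr.node (Tr.node (Tr.node (Tr.leaf (11,0,false)) (Tr.leaf (0,0,false))) (Tr.node (Tr.leaf (28,42,false)) (Tr.leaf (0,0,false)))) (Tr.node (Tr.node (Tr.leaf (23,3,false)) (Tr.leaf (0,0,false))) (Tr.node (Tr.leaf (28,49,true)) (Tr.leaf (0,0,false)))))))) (Tr.node (Tr.node (Tr.node (Tr.node (Tr.node (Tr.node (Tr.leaf (0,1,true)) (Tr.leaf (28,64,true))) (Tr.node (Tr.leaf (25,1,true)) (Tr.leaf (0,0,false)))) (Tr.node (Tr.node (Tr.leaf (13,1,false)) (Tr.leaf (0,0,false))) (Tr.node (Tr.leaf (28,55,false)) (Tr.leaf (0,0,false))))) (Tr.node (Tr.node (Tr.node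 (Tr.leaf (6,2,true)) (Tr.leaf (0,0,false))) (Tr.node (Tr.leaf (28,19,false)) (Tr.leaf (0,0,false)))) (Tr.node (Tr.node (Tr.leaf (20,1,false)) (Tr.leaf (0,0,false))) (Tr.node (Tr.leaf (28,28,true)) (Tr.leaf (0,0,false)))))) (Tr.node (Tr.node (Tr.node (Tr.node (Tr.leaf (3,2,true)) (Tr.leaf (0,0,false))) (Tr.node (Tr.leaf (28,1,false)) (Tr.leaf (0,0,false)))) (Tr.node (Tr.node (Tr.leaf (16,1,true)) (Tr.leaf (0,0,false))) (Tr.node (Tr.leaf (28,8,true)) (Tr.leaf (0,0,false))))) (Tr.node (Tr.node (Tr.node (Tr.leaf (10,0,false)) (Tr.leaf (0,0,false))) (Tr.node (Tr.leaf (28,37,false)) (Tr.leaf (0,0,false)))) (Tr.node (Tr.node (Tr.leaf (22,1,true)) (Tr.leaf (0,0,false))) (Tr.node (Tr.leaf (28,44,true)) (Tr.leaf (0,0,false))))))) (Tr.node (Tr.node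 (Tr.node (Tr.node (Tr.node (Tr.leaf (2,3,false)) (Tr.leaf (29,7,false))) (Tr.node (Tr.leaf (27,2,false)) (Tr.leaf (0,0,false)))) (Tr.node (Tr.node (Tr.leaf (15,0,false)) (Tr.leaf (0,0,false))) (Tr.node (Tr.leaf (28,63,false)) (Tr.leaf (0,0,false))))) (Tr.node (Tr.node (Tr.node (Tr.leaf (8,2,false)) (Tr.leaf (0,0,false))) (Tr.node (Tr.leaf (28,27,false)) (Tr.leaf (0,0,false)))) (Tr.node (Tr.node (Tr.leaf (21,1,false)) (Tr.leaf (0,0,false))) (Tr.node (Tr.leaf (28,36,true)) (Tr.leaf (0,0,false)))))) (Tr.node (Tr.node (Tr.node (Tr.node (Tr.leaf (5,3,false)) (Tr.leaf (0,0,false))) (Tr.node (Tr.leaf (28,10,false)) (Tr.leaf (0,0,false)))) (Tr.node (Tr.node (Tr.leaf (18,3,false)) (Tr.leaf (0,0,false))) (Tr.node (Tr.leaf (28,20,true)) (Tr.leaf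 (0,0,false))))) (Tr.node (Tr.node (Tr.node (Tr.leaf (11,4,false)) (Tr.leaf (0,0,false))) (Tr.node (Tr.leaf (28,46,false)) (Tr.leaf (0,0,false)))) (Tr.node (Tr.node (Tr.leaf (24,3,false)) (Tr.leaf (0,0,false))) (Tr.node (Tr.leaf (28,54,true)) (Tr.leaf (0,0,false)))))))))))

/-- The subgroup rotations. -/
noncomputable def srotT : Tr (List Nat × Nat × List Nat) := (Tr.node (Tr.node (Tr.node (Tr.leaf ([],0,[])) (Tr.leaf ([],4,[]))) (Tr.node (Tr.leaf ([],2,[])) (Tr.leaf ([],6,[])))) (Tr.node (Tr.node (Tr.leaf ([],1,[])) (Tr.leaf ([],5,[]))) (Tr.node (Tr.leaf ([],3,[])) (Tr.leaf ([],0,[])))))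

/-- The certificate. -/
noncomputable def cert : Cert :=
  mkCert 8 69527 433106 6 272 279 4 15 509 52 416 489 4503599627370495 9444732965739290427391 19 17 524287 131071 36 34 7 ctree.get rotT.get srotT.get

/-- The letters. -/
def ls : List Nat := [0,1,2,3,4,5,6,7]

/-- The smaller letters. -/
def ls' : List Nat := [0,1,2,3,4,5,6]

/-- The inverses. -/
def inv' (c : Nat) : Nat := [0,1,2,3,4,5,6,7].getD c 0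

/-- The relators. -/
def rels' : List (List Nat) :=
  [[1,0,1,0,1,0],
   [2,0,2,0],
   [2,1,2,1,2,1],
   [3,0,3,0],
   [3,1,3,1],
   [3,2,3,2,3,2],
   [4,0,4,0],
   [4,1,4,1],
   [4,2,4,2],
   [4,3,4,3,4,3],
   [5,0,5,0],
   [5,1,5,1,5,1],
   [5,2,5,2],
   [5,3,5,3],
   [5,4,5,4],
   [6,0,6,0],
   [6,1,6,1],
   [6,2,6,2],
   [6,3,6,3],
   [6,4,6,4],
   [6,5,6,5,6,5],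
   [7,0,7,0],
   [7,1,7,1],
   [7,2,7,2],
   [7,3,7,3,7,3],
   [7,4,7,4],
   [7,5,7,5],
   [7,6,7,6,7,6],
   [7,6,3,2,1,5,4,3,2,1,0,1,2,3,4,5,1,2,3,6,7,5,6,1,5,2,1,0,1,2,5,1,6,5,6,3,4,2,3,7,6,1,2,3,7,4,3,2,1,0,1,2,3,4,7,3,2,1,6,7,3,2,4,3,4]]

/-- The words of the subgroup. -/
def subs' : List (List Nat) :=
  [[0],
   [1],
   [2],
   [3],
   [4],
   [5],
   [6]]

end Cfsg.Agent.Lib.Schur.U62.S1.Tab
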